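import Mathlib

/-!
# Witt vectors of p-adically complete rings are complete
-/

universe u

namespace Groth.Agent.WittComplete

open WittVector

variable {p : ℕ} [hp : Fact p.Prime] {A : Type u} [CommRing A]

local notation "𝕎" => WittVector p

theorem coeff_natCast_pow_eq_zero {N : ℕ} (hA : (p : A) ^ N = 0) :
    ∀ (k : ℕ), ∀ i < k, (((p : 𝕎 A) ^ (N * k))).coeff i = 0 := by
  intro k
  induction k with
  | zero => intro i hi; omega
  | succ k ih =>
    intro i hi
    have hx := eq_iterate_verschiebung ih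
    generalize (((p : 𝕎 A) ^ (N * k))).shift k = y at hx
    have h1 : ((p : 𝕎 A) ^ (N * (k + 1))) = (verschiebung : 𝕎 A →+ 𝕎 A)^[k] ((p : 𝕎 A) ^ N * y) := by
      rw [Nat.mul_succ, pow_add, mul_comm, hx, ← Nat.cast_pow, ← nsmul_eq_mul, ← nsmul_eq_mul]
      exact (iterate_map_nsmul (verschiebung : 𝕎 A →+ 𝕎 A) k y (p ^ N)).symm
    rw [h1]
    rcases Nat.lt_succ_iff_lt_or_eq.1 hi with hlt | rfl
    · obtain ⟨c, hc⟩ := Nat.exists_eq_add_of_lt hlt
      have hV : ∀ (a : ℕ) (z : 𝕎 A), ((verschiebung : 𝕎 A →+ 𝕎 A)^[i + 1 + a] z).coeff i = 0 := by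
        intro a z
        rw [Function.iterate_add_apply, Function.iterate_succ_apply]
        have := iterate_verschiebung_coeff (verschiebung ((verschiebung : 𝕎 A →+ 𝕎 A)^[a] z)) i 0
        rw [Nat.zero_add] at this
        rw [this, verschiebung_coeff_zero]
      rw [show k = i + 1 + c by omega]
      exact hV c _
    · have := iterate_verschiebung_coeff ((p : 𝕎 A) ^ N * y) i 0
      rw [Nat.zero_add] at this
      rw [this, mul_coeff_zero]
      have h0 : ((p : 𝕎 A) ^ N).coeff 0 = (p : A) ^ N := by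
        rw [← constantCoeff_apply, map_pow, map_natCast]
      rw [h0, hA, zero_mul]

variable (p) {R : Type u} [CommRing R]

/-- Reduction to `W_m(R/p^N)`. -/
noncomputable def red (R : Type u) [CommRing R] (m N : ℕ) :
    𝕎 R →+* TruncatedWittVector p m (R ⧸ (Ideal.span {(p : R)}) ^ N) :=
  (WittVector.truncate m).comp (WittVector.map (Ideal.Quotient.mk _))

variable {p}

theorem red_eq_red_iff {m N : ℕ} {x y : 𝕎 R} : red p R m N x = red p R m N y ↔
    ∀ i < m, x.coeff i - y.coeff i ∈ (Ideal.span {(p : R)}) ^ N := by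
  constructor
  · intro h i hi
    have := congrArg (fun v => TruncatedWittVector.coeff ⟨i, hi⟩ v) h
    simpa [red, Ideal.Quotient.eq] using this
  · intro h
    ext i
    simpa [red, Ideal.Quotient.eq] using h i i.isLt

theorem red_eq_of_sub_mem {m N n : ℕ} (hn : N * m ≤ n) {x y : 𝕎 R}
    (h : x - y ∈ (Ideal.span {(p : 𝕎 R)}) ^ n) : red p R m N x = red p R m N y := by
  rw [Ideal.span_singleton_pow, Ideal.mem_span_singleton] at h
  obtain ⟨z, hz⟩ := h
  have h0 : red p R m N ((p : 𝕎 R) ^ (N * m)) = 0 := by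
    have hA : ((p : R ⧸ (Ideal.span {(p : R)}) ^ N)) ^ N = 0 := by
      rw [← map_natCast (Ideal.Quotient.mk _), ← map_pow, Ideal.Quotient.eq_zero_iff_mem]
      exact Ideal.pow_mem_pow (Ideal.mem_span_singleton_self _) _
    ext i
    rw [red, RingHom.comp_apply, map_pow, map_natCast, coeff_truncate,
      TruncatedWittVector.coeff_zero]
    exact coeff_natCast_pow_eq_zero hA m i i.isLt
  rw [← sub_eq_zero, ← map_sub, hz, map_mul, show n = N * m + (n - N * m) by omega, pow_add,
    map_mul, h0, zero_mul, zero_mul]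

variable [IsAdicComplete (Ideal.span {(p : R)}) R]

theorem eq_of_red_eq {x y : 𝕎 R} (h : ∀ m N, red p R m N x = red p R m N y) : x = y := by
  ext i
  rw [← sub_eq_zero]
  refine IsHausdorff.haus' (I := Ideal.span {(p : R)}) _ fun N => ?_
  rw [SModEq.zero, smul_eq_mul, Ideal.mul_top]
  exact red_eq_red_iff.1 (h (i + 1) N) i (Nat.lt_succ_self i)

theorem exists_limit (f : ℕ → 𝕎 R)
    (hf : ∀ {a b : ℕ}, a ≤ b → f a - f b ∈ (Ideal.span {(p : 𝕎 R)}) ^ a) :
    ∃ L : 𝕎 R, ∀ m N j, N * m ≤ j → red p R m N L = red p R m N (f j) := by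
  have hc : ∀ (i N j : ℕ), N * (i + 1) ≤ j →
      (f (N * (i + 1))).coeff i - (f j).coeff i ∈ (Ideal.span {(p : R)}) ^ N := fun i N j hj =>
    red_eq_red_iff.1 (red_eq_of_sub_mem (m := i + 1) (N := N) le_rfl (hf hj)) i (Nat.lt_succ_self i)
  have hL : ∀ i, ∃ l : R, ∀ N, (f (N * (i + 1))).coeff i - l ∈ (Ideal.span {(p : R)}) ^ N := by
    intro i
    obtain ⟨l, hl⟩ := IsPrecomplete.prec (IsAdicComplete.toIsPrecomplete (I := Ideal.span {(p : R)}) (M := R))
      (f := fun N => (f (N * (i + 1))).coeff i) (fun {a b} hab => by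
        rw [SModEq.sub_mem, smul_eq_mul, Ideal.mul_top]
        exact hc i a _ (Nat.mul_le_mul_right _ hab))
    exact ⟨l, fun N => by
      have := hl N
      rwa [SModEq.sub_mem, smul_eq_mul, Ideal.mul_top] at this⟩
  choose l hl using hL
  refine ⟨WittVector.mk p l, fun m N j hj => red_eq_red_iff.2 fun i hi => ?_⟩
  rw [coeff_mk]
  have h1 := hl i N
  have h2 := hc i N j (le_trans (Nat.mul_le_mul_left _ hi) hj)
  have : l i - (f j).coeff i = ((f (N * (i + 1))).coeff i - (f j).coeff i) -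
      ((f (N * (i + 1))).coeff i - l i) := by ring
  rw [this]
  exact sub_mem h2 h1

variable (R p)

theorem isAdicComplete_span_p : IsAdicComplete (Ideal.span {(p : 𝕎 R)}) (𝕎 R) := by
  have hH : IsHausdorff (Ideal.span {(p : 𝕎 R)}) (𝕎 R) := ⟨fun x hx => by
    refine eq_of_red_eq fun m N => ?_
    refine red_eq_of_sub_mem (n := N * m) le_rfl ?_
    rw [sub_zero]
    simpa [SModEq.zero, smul_eq_mul] using hx (N * m)⟩
  have hP : IsPrecomplete (Ideal.span {(p : 𝕎 R)}) (𝕎 R) := ⟨fun f hf => by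
    have hf' : ∀ {a b : ℕ}, a ≤ b → f a - f b ∈ (Ideal.span {(p : 𝕎 R)}) ^ a := fun {a b} hab => by
      have := hf hab
      rwa [SModEq.sub_mem, smul_eq_mul, Ideal.mul_top] at this
    obtain ⟨L, hL⟩ := exists_limit f hf'
    refine ⟨L, fun n => ?_⟩
    rw [SModEq.sub_mem, smul_eq_mul, Ideal.mul_top]
    have hg : ∀ j, ∃ g : 𝕎 R, f (n + j) - f n = (p : 𝕎 R) ^ n * g := fun j => by
      have := hf' (Nat.le_add_right n j)
      rw [Ideal.span_singleton_pow, Ideal.mem_span_singleton] at this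
      obtain ⟨z, hz⟩ := this
      exact ⟨-z, by rw [mul_neg, ← hz]; ring⟩
    choose g hg using hg
    have hd : ∀ j, ∃ d : 𝕎 R, f (n + j) - f (n + j + 1) = (p : 𝕎 R) ^ (n + j) * d := fun j => by
      have := hf' (Nat.le_add_right (n + j) 1)
      rw [Ideal.span_singleton_pow, Ideal.mem_span_singleton] at this
      exact this
    choose d hd using hd
    let w : ℕ → 𝕎 R := fun j => -∑ k ∈ Finset.range j, (p : 𝕎 R) ^ k * d k
    have hw : ∀ j, f (n + j) = f n + (p : 𝕎 R) ^ n * w j := by
      intro j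
      induction j with
      | zero => simp [w]
      | succ j ih =>
        have h1 := hd j
        have h2 : w (j + 1) = w j - (p : 𝕎 R) ^ j * d j := by
          simp only [w, Finset.sum_range_succ]; ring
        rw [h2, show n + (j + 1) = n + j + 1 by omega]
        rw [pow_add] at h1
        linear_combination ih - h1
    have hwc : ∀ {a b : ℕ}, a ≤ b → w a - w b ∈ (Ideal.span {(p : 𝕎 R)}) ^ a := fun {a b} hab => by
      have : w a - w b = ∑ k ∈ Finset.Ico a b, (p : 𝕎 R) ^ k * d k := by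
        rw [Finset.sum_Ico_eq_sub _ hab]; simp only [w]; ring
      rw [this, Ideal.span_singleton_pow]
      refine Submodule.sum_mem _ fun k hk => Ideal.mem_span_singleton.2 ?_
      exact Dvd.dvd.mul_right (pow_dvd_pow _ (Finset.mem_Ico.1 hk).1) _
    obtain ⟨W, hW⟩ := exists_limit w hwc
    have hLW : L = f n + (p : 𝕎 R) ^ n * W := eq_of_red_eq fun m N => by
      rw [hL m N (n + N * m) (Nat.le_add_left _ _), map_add, map_mul, hW m N (N * m) le_rfl,
        ← map_mul, ← map_add, hw]
    rw [hLW, sub_add_cancel_left]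
    exact neg_mem (Ideal.mul_mem_right _ _ (Ideal.pow_mem_pow (Ideal.mem_span_singleton_self _) _))⟩
  exact { hH, hP with }

omit [IsAdicComplete (Ideal.span {(p : R)}) R] in
theorem mem_ker_pow_succ_iff (n : ℕ) (x : 𝕎 R) :
    x ∈ (RingHom.ker (constantCoeff : 𝕎 R →+* R)) ^ (n + 1) ↔
      ∃ y, x = verschiebung ((p : 𝕎 R) ^ n * y) := by
  have hk : ∀ x : 𝕎 R, x ∈ RingHom.ker (constantCoeff : 𝕎 R →+* R) ↔ ∃ y, x = verschiebung y := by
    intro x
    refine ⟨fun h => ⟨x.shift 1, ?_⟩, ?_⟩
    · simpa using eq_iterate_verschiebung (x := x) (n := 1) fun i hi => by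
        obtain rfl : i = 0 := by omega
        exact h
    · rintro ⟨y, rfl⟩
      exact verschiebung_coeff_zero y
  have hmul : ∀ a b : 𝕎 R, verschiebung a * verschiebung b = verschiebung ((p : 𝕎 R) * a * b) := by
    intro a b
    rw [← verschiebung_mul_frobenius a (verschiebung b), frobenius_verschiebung]
    ring_nf
  constructor
  · induction n generalizing x with
    | zero =>
      intro h
      obtain ⟨y, rfl⟩ := (hk x).1 (by simpa using h)
      exact ⟨y, by simp⟩
    | succ n ih =>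
      intro h
      rw [pow_succ] at h
      refine Submodule.mul_induction_on h ?_ ?_
      · intro a ha b hb
        obtain ⟨y, rfl⟩ := ih a ha
        obtain ⟨z, rfl⟩ := (hk b).1 hb
        exact ⟨y * z, by rw [hmul]; congr 1; ring⟩
      · rintro a b ⟨y, rfl⟩ ⟨z, rfl⟩
        exact ⟨y + z, by rw [← map_add, mul_add]⟩
  · rintro ⟨y, rfl⟩
    induction n generalizing y with
    | zero => rw [zero_add, pow_one]; exact (hk _).2 ⟨_, rfl⟩
    | succ n ih =>
      have : verschiebung ((p : 𝕎 R) ^ (n + 1) * y) =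
          verschiebung ((p : 𝕎 R) ^ n * y) * verschiebung 1 := by
        rw [hmul]; congr 1; ring
      rw [this, pow_succ _ (n + 1)]
      exact Ideal.mul_mem_mul (ih y) ((hk _).2 ⟨1, rfl⟩)

theorem isAdicComplete_ker : IsAdicComplete (RingHom.ker (constantCoeff : 𝕎 R →+* R)) (𝕎 R) := by
  have hC := isAdicComplete_span_p p R
  have hinj : Function.Injective (verschiebung : 𝕎 R → 𝕎 R) := fun a b h => by
    ext i
    have := congrArg (fun v : 𝕎 R => v.coeff (i + 1)) h
    simpa [verschiebung_coeff_succ] using this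
  have hH : IsHausdorff (RingHom.ker (constantCoeff : 𝕎 R →+* R)) (𝕎 R) := ⟨fun x hx => by
    have hx' : ∀ n, ∃ y, x = verschiebung ((p : 𝕎 R) ^ n * y) := fun n =>
      (mem_ker_pow_succ_iff p R n x).1 (by simpa [SModEq.zero, smul_eq_mul] using hx (n + 1))
    obtain ⟨y₀, hy₀⟩ := hx' 0
    rw [pow_zero, one_mul] at hy₀
    have : y₀ = 0 := IsHausdorff.haus' (I := Ideal.span {(p : 𝕎 R)}) _ fun n => by
      obtain ⟨y, hy⟩ := hx' n
      rw [SModEq.zero, smul_eq_mul, Ideal.mul_top, hinj (hy₀.symm.trans hy)]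
      exact Ideal.mul_mem_right _ _ (Ideal.pow_mem_pow (Ideal.mem_span_singleton_self _) _)
    rw [hy₀, this, map_zero]⟩
  have hP : IsPrecomplete (RingHom.ker (constantCoeff : 𝕎 R →+* R)) (𝕎 R) := ⟨fun f hf => by
    have hf' : ∀ {a b : ℕ}, a ≤ b →
        ∃ y, f (a + 1) - f (b + 1) = verschiebung ((p : 𝕎 R) ^ a * y) := fun {a b} hab => by
      have := hf (Nat.succ_le_succ hab)
      rw [SModEq.sub_mem, smul_eq_mul, Ideal.mul_top] at this
      exact (mem_ker_pow_succ_iff p R a _).1 this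
    choose y hy using fun b => hf' (Nat.zero_le b)
    obtain ⟨G, hG⟩ := IsPrecomplete.prec hC.toIsPrecomplete (f := y) (fun {a b} hab => by
      rw [SModEq.sub_mem, smul_eq_mul, Ideal.mul_top]
      obtain ⟨z, hz⟩ := hf' hab
      have : y b - y a = (p : 𝕎 R) ^ a * z := hinj (by
        have h1 := hy a
        have h2 := hy b
        rw [pow_zero, one_mul] at h1 h2
        rw [map_sub, ← h1, ← h2, ← hz]
        abel)
      rw [← neg_sub, this]
      exact neg_mem (Ideal.mul_mem_right _ _ (Ideal.pow_mem_pow (Ideal.mem_span_singleton_self _) _)))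
    refine ⟨f 1 - verschiebung G, fun n => ?_⟩
    rw [SModEq.sub_mem, smul_eq_mul, Ideal.mul_top]
    rcases n with _ | a
    · simp
    · have := hG a
      rw [SModEq.sub_mem, smul_eq_mul, Ideal.mul_top, Ideal.span_singleton_pow,
        Ideal.mem_span_singleton] at this
      obtain ⟨z, hz⟩ := this
      refine (mem_ker_pow_succ_iff p R a _).2 ⟨-z, ?_⟩
      have h1 := hy a
      rw [pow_zero, one_mul] at h1
      rw [mul_neg, ← hz, neg_sub, map_sub, ← h1]
      abel⟩
  exact { hH, hP with }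

end Groth.Agent.WittComplete
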